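import Mathlib
import Cfsg.Prelude.Def_G2
import Cfsg.Agent.Lib.Helper90.Syl2.Defs

/-!
Ladder G2SYL (helper90): a Sylow 2-subgroup of `G₂(q)` (octonion model), `q` odd, has elementary
abelian abelianisation.  Definitions only.
-/

set_option autoImplicit false

namespace Cfsg.Agent.Lib.Helper90.G2S

open Cfsg.Lie Matrix
open scoped MatrixGroups

variable {F : Type*} [Field F]

/-- the action of `G₂(F)` on `F⁸`. -/
def act (g : G2 F) (x : Fin 8 → F) : Fin 8 → F :=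
  ((g : GL (Fin 8) F) : Matrix (Fin 8) (Fin 8) F) *ᵥ x

/-- the vector matrix `[[α, a], [b, β]]`. -/
def zv (α : F) (a b : Fin 3 → F) (β : F) : Fin 8 → F := ![α, a 0, a 1, a 2, b 0, b 1, b 2, β]

/-- the idempotent `e₁ = [[1, 0], [0, 0]]`. -/
def e1 : Fin 8 → F := ![1, 0, 0, 0, 0, 0, 0, 0]

/-- the identity element of the Zorn algebra. -/
def one8 : Fin 8 → F := ![1, 0, 0, 0, 0, 0, 0, 1]

variable (F) in
/-- the non-trivial idempotents: trace `1` and norm `0`. -/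
def Idem : Set (Fin 8 → F) :=
  {x | x 0 + x 7 = 1 ∧ x 0 * x 7 = x 1 * x 4 + x 2 * x 5 + x 3 * x 6}

/-- Cayley-Dickson coordinates `x + y ℓ`, `x y ∈ M₂(F)`, `ℓ = [[0, e₁], [e₁, 0]]`. -/
def psi (x y : Matrix (Fin 2) (Fin 2) F) : Fin 8 → F :=
  ![x 0 0, x 0 1, y 0 0, - y 1 0, x 1 0, y 1 1, y 0 1, x 1 1]

variable (F) in
/-- pairs of invertible `2 × 2` matrices with the same determinant. -/
def MM : Subgroup (GL (Fin 2) F × GL (Fin 2) F) :=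
  ((GeneralLinearGroup.det (n := Fin 2) (R := F)).comp (MonoidHom.fst _ _)).eqLocus
    ((GeneralLinearGroup.det (n := Fin 2) (R := F)).comp (MonoidHom.snd _ _))

/-- `Φ` is the Cayley-Dickson action `x + y ℓ ↦ p x p⁻¹ + (r y p⁻¹) ℓ`. -/
def IsPhi (Φ : MM F →* G2 F) : Prop :=
  ∀ (m : MM F) (x y : Matrix (Fin 2) (Fin 2) F),
    act (Φ m) (psi x y) =
      psi ((m.1.1 : Matrix (Fin 2) (Fin 2) F) * x * ((m.1.1⁻¹ : GL (Fin 2) F) : Matrix (Fin 2) (Fin 2) F))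
        ((m.1.2 : Matrix (Fin 2) (Fin 2) F) * y * ((m.1.1⁻¹ : GL (Fin 2) F) : Matrix (Fin 2) (Fin 2) F))

/-- `g` acts as `s ∈ SL₃` : `[[α, a], [b, β]] ↦ [[α, s a], [s⁻ᵀ b, β]]`. -/
def ActsAs (g : G2 F) (s : SpecialLinearGroup (Fin 3) F) : Prop :=
  ∀ (α β : F) (a b : Fin 3 → F),
    act g (zv α a b β) = zv α ((s : Matrix (Fin 3) (Fin 3) F) *ᵥ a)
      (((s⁻¹ : SpecialLinearGroup (Fin 3) F) : Matrix (Fin 3) (Fin 3) F)ᵀ *ᵥ b) β

/-- the properties of a Sylow 2-subgroup `X` of `GL₂(F)` that are used. -/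
structure Base (X : Subgroup (GL (Fin 2) F)) : Prop where
  pgroup : IsPGroup 2 X
  sq : ∀ x ∈ X, ∃ z ∈ ⁅X, X⁆, ((x * x : GL (Fin 2) F) : Matrix (Fin 2) (Fin 2) F) =
    (x : Matrix (Fin 2) (Fin 2) F).det • (z : Matrix (Fin 2) (Fin 2) F)
  comm : ∀ x ∈ X, ∀ x' ∈ X, ∃ a ∈ X, ∃ a' ∈ X, Commute a a' ∧
    (a : Matrix (Fin 2) (Fin 2) F).det = (x : Matrix (Fin 2) (Fin 2) F).det ∧
    (a' : Matrix (Fin 2) (Fin 2) F).det = (x' : Matrix (Fin 2) (Fin 2) F).det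

/-- the 2-subgroup of `G₂(F)` built from `X`. -/
def PP (Φ : MM F →* G2 F) (X : Subgroup (GL (Fin 2) F)) : Subgroup (G2 F) :=
  ((X.prod X).subgroupOf (MM F)).map Φ

/-- `f` and `f'` lie in the same orbit of `G₂(F)`. -/
def Rel (f f' : Fin 8 → F) : Prop := ∃ g : G2 F, act g f = f'

/-- `T` is the 2-part of a maximal torus of `GL₂(F)` and `w` a Weyl involution. -/
structure Tor (T : Subgroup (GL (Fin 2) F)) (w : GL (Fin 2) F) : Prop where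
  pgroup : IsPGroup 2 T
  comm : ∀ c ∈ T, ∀ c' ∈ T, Commute c c'
  w_sq : w * w = 1
  w_det : (w : Matrix (Fin 2) (Fin 2) F).det = -1
  w_not_mem : w ∉ T
  conj_mem : ∀ c ∈ T, w * c * w⁻¹ ∈ T
  conj_adj : ∀ c ∈ T, ((w * c * w⁻¹ : GL (Fin 2) F) : Matrix (Fin 2) (Fin 2) F) =
    adjugate (c : Matrix (Fin 2) (Fin 2) F)
  ex_c : ∃ c ∈ T, adjugate (c : Matrix (Fin 2) (Fin 2) F) = -(c : Matrix (Fin 2) (Fin 2) F)
  ex_t : ∃ t ∈ T, (t : Matrix (Fin 2) (Fin 2) F).det = -1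

end Cfsg.Agent.Lib.Helper90.G2S
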