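import Cfsg.Agent.Lib.Helper90.G2S.Defs

set_option autoImplicit false

namespace Cfsg.Agent.Lib.Helper90.G2S

open Cfsg.Lie Matrix
open scoped MatrixGroups

variable {F : Type*} [Field F]

theorem act_one (x : Fin 8 → F) : act (1 : G2 F) x = x := by
  simp [act]

theorem act_mul (g h : G2 F) (x : Fin 8 → F) : act (g * h) x = act g (act h x) := by
  simp [act, Matrix.mulVec_mulVec]

theorem act_zornMul (g : G2 F) (x y : Fin 8 → F) :
    act g (zornMul x y) = zornMul (act g x) (act g y) := by
  have h := g.2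
  exact h x y

theorem act_add (g : G2 F) (x y : Fin 8 → F) : act g (x + y) = act g x + act g y := by
  simp [act, Matrix.mulVec_add]

theorem act_smul (g : G2 F) (c : F) (x : Fin 8 → F) : act g (c • x) = c • act g x := by
  simp [act, Matrix.mulVec_smul]

theorem act_ext {g h : G2 F} (H : ∀ x, act g x = act h x) : g = h := by
  apply Subtype.ext
  apply Units.ext
  apply Matrix.toLin'.injective
  ext1 x
  apply LinearMap.ext
  intro c
  simpa [act] using H (Pi.single x c)

/-- a group acting linearly on `F⁸` by automorphisms of the Zorn product maps to `G₂(F)`. -/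
theorem exists_hom {M : Type*} [Group M] (E : M → (Fin 8 → F) →ₗ[F] (Fin 8 → F))
    (hone : ∀ x, E 1 x = x) (hmul : ∀ m m' x, E (m * m') x = E m (E m' x))
    (haut : ∀ m x y, E m (zornMul x y) = zornMul (E m x) (E m y)) :
    ∃ φ : M →* G2 F, ∀ m x, act (φ m) x = E m x := by
  let f : M →* Matrix (Fin 8) (Fin 8) F :=
    { toFun := fun m => LinearMap.toMatrix' (E m)
      map_one' := by
        have : E 1 = LinearMap.id := LinearMap.ext hone
        rw [this, LinearMap.toMatrix'_id]
      map_mul' := by
        intro m m'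
        have : E (m * m') = (E m).comp (E m') := LinearMap.ext (hmul m m')
        rw [this, LinearMap.toMatrix'_comp] }
  let f' : M →* GL (Fin 8) F := f.toHomUnits
  have hf' : ∀ m x, ((f' m : GL (Fin 8) F) : Matrix (Fin 8) (Fin 8) F) *ᵥ x = E m x := by
    intro m x
    change LinearMap.toMatrix' (E m) *ᵥ x = E m x
    rw [LinearMap.toMatrix'_mulVec]
  have hmem : ∀ m, f' m ∈ G2 F := by
    intro m x y
    change ((f' m : GL (Fin 8) F) : Matrix (Fin 8) (Fin 8) F) *ᵥ zornMul x y =
      zornMul (((f' m : GL (Fin 8) F) : Matrix (Fin 8) (Fin 8) F) *ᵥ x)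
        (((f' m : GL (Fin 8) F) : Matrix (Fin 8) (Fin 8) F) *ᵥ y)
    rw [hf', hf', hf', haut]
  refine ⟨f'.codRestrict (G2 F) hmem, ?_⟩
  intro m x
  exact hf' m x

end Cfsg.Agent.Lib.Helper90.G2S
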