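import Cfsg.Agent.Lib.Helper90.G2S.Defs

set_option autoImplicit false

namespace Cfsg.Agent.Lib.Helper90.G2S

open Cfsg.Lie Matrix
open scoped MatrixGroups

variable {F : Type*} [Field F]

theorem zornMul_psi (x y u v : Matrix (Fin 2) (Fin 2) F) :
    zornMul (psi x y) (psi u v) = psi (x * u + adjugate v * y) (v * x + y * adjugate u) := by
  ext i
  fin_cases i <;>
    simp [zornMul, psi, dot3, cross3, Matrix.mul_apply, Fin.sum_univ_two,
      Matrix.adjugate_fin_two, Matrix.vecMul, Matrix.mulVec, dotProduct] <;> ring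

theorem psi_surj (w : Fin 8 → F) : psi !![w 0, w 1; w 4, w 7] !![w 2, w 6; - w 3, w 5] = w := by
  ext i
  fin_cases i <;> simp [psi]

theorem psi_inj {x y u v : Matrix (Fin 2) (Fin 2) F} (h : psi x y = psi u v) : x = u ∧ y = v := by
  have h0 := congrFun h 0
  have h1 := congrFun h 1
  have h2 := congrFun h 2
  have h3 := congrFun h 3
  have h4 := congrFun h 4
  have h5 := congrFun h 5
  have h6 := congrFun h 6
  have h7 := congrFun h 7
  simp [psi] at h0 h1 h2 h3 h4 h5 h6 h7
  constructor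
  · ext i j
    fin_cases i <;> fin_cases j <;> simp [*]
  · ext i j
    fin_cases i <;> fin_cases j <;> simp [*]

theorem psi_eq_zv (x y : Matrix (Fin 2) (Fin 2) F) :
    psi x y = zv (x 0 0) ![x 0 1, y 0 0, - y 1 0] ![x 1 0, y 1 1, y 0 1] (x 1 1) := by
  ext i
  fin_cases i <;> simp [psi, zv]

theorem zv_eq_psi (α β : F) (a b : Fin 3 → F) :
    zv α a b β = psi !![α, a 0; b 0, β] !![a 1, b 2; - a 2, b 1] := by
  ext i
  fin_cases i <;> simp [psi, zv]

end Cfsg.Agent.Lib.Helper90.G2S
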