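import Cfsg.Agent.Lib.Helper90.G2S.O1
import Cfsg.Agent.Lib.Helper90.G2S.O2

set_option autoImplicit false

namespace Cfsg.Agent.Lib.Helper90.G2S

open Cfsg.Lie Matrix
open scoped MatrixGroups

variable {F : Type*} [Field F]

/-- first Cayley-Dickson coordinate. -/
def cdX : (Fin 8 → F) →ₗ[F] Matrix (Fin 2) (Fin 2) F where
  toFun w := !![w 0, w 1; w 4, w 7]
  map_add' u v := by
    ext i j; fin_cases i <;> fin_cases j <;> simp
  map_smul' c v := by
    ext i j; fin_cases i <;> fin_cases j <;> simp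

/-- second Cayley-Dickson coordinate. -/
def cdY : (Fin 8 → F) →ₗ[F] Matrix (Fin 2) (Fin 2) F where
  toFun w := !![w 2, w 6; - w 3, w 5]
  map_add' u v := by
    ext i j; fin_cases i <;> fin_cases j <;> simp [add_comm]
  map_smul' c v := by
    ext i j; fin_cases i <;> fin_cases j <;> simp

theorem psi_cd (w : Fin 8 → F) : psi (cdX w) (cdY w) = w := psi_surj w

theorem cdX_psi (x y : Matrix (Fin 2) (Fin 2) F) : cdX (psi x y) = x :=
  (psi_inj (psi_cd (psi x y))).1

theorem cdY_psi (x y : Matrix (Fin 2) (Fin 2) F) : cdY (psi x y) = y :=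
  (psi_inj (psi_cd (psi x y))).2

theorem psi_add (x y u v : Matrix (Fin 2) (Fin 2) F) :
    psi (x + u) (y + v) = psi x y + psi u v := by
  ext i; fin_cases i <;> simp [psi, add_comm]

theorem psi_smul (c : F) (x y : Matrix (Fin 2) (Fin 2) F) :
    psi (c • x) (c • y) = c • psi x y := by
  ext i; fin_cases i <;> simp [psi]

/-- the linear map `x + y ℓ ↦ A x B + (C y B) ℓ`. -/
def cdMap (A B C : Matrix (Fin 2) (Fin 2) F) : (Fin 8 → F) →ₗ[F] (Fin 8 → F) where
  toFun w := psi (A * cdX w * B) (C * cdY w * B)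
  map_add' u v := by
    rw [map_add, map_add, mul_add, mul_add, add_mul, add_mul, psi_add]
  map_smul' c v := by
    rw [map_smul, map_smul, Matrix.mul_smul, Matrix.mul_smul, Matrix.smul_mul, Matrix.smul_mul,
      psi_smul, RingHom.id_apply]

theorem cdMap_psi (A B C x y : Matrix (Fin 2) (Fin 2) F) :
    cdMap A B C (psi x y) = psi (A * x * B) (C * y * B) := by
  change psi (A * cdX (psi x y) * B) (C * cdY (psi x y) * B) = _
  rw [cdX_psi, cdY_psi]

theorem o3_aut (P R : GL (Fin 2) F)
    (hd : (P : Matrix (Fin 2) (Fin 2) F).det = (R : Matrix (Fin 2) (Fin 2) F).det)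
    (x y u v : Matrix (Fin 2) (Fin 2) F) :
    (P : Matrix (Fin 2) (Fin 2) F) * (x * u + adjugate v * y) * ((P⁻¹ : GL (Fin 2) F) : Matrix (Fin 2) (Fin 2) F)
      = ((P : Matrix (Fin 2) (Fin 2) F) * x * ((P⁻¹ : GL (Fin 2) F) : Matrix (Fin 2) (Fin 2) F)) *
        ((P : Matrix (Fin 2) (Fin 2) F) * u * ((P⁻¹ : GL (Fin 2) F) : Matrix (Fin 2) (Fin 2) F)) +
        adjugate ((R : Matrix (Fin 2) (Fin 2) F) * v * ((P⁻¹ : GL (Fin 2) F) : Matrix (Fin 2) (Fin 2) F)) *
        ((R : Matrix (Fin 2) (Fin 2) F) * y * ((P⁻¹ : GL (Fin 2) F) : Matrix (Fin 2) (Fin 2) F)) ∧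
    (R : Matrix (Fin 2) (Fin 2) F) * (v * x + y * adjugate u) * ((P⁻¹ : GL (Fin 2) F) : Matrix (Fin 2) (Fin 2) F)
      = ((R : Matrix (Fin 2) (Fin 2) F) * v * ((P⁻¹ : GL (Fin 2) F) : Matrix (Fin 2) (Fin 2) F)) *
        ((P : Matrix (Fin 2) (Fin 2) F) * x * ((P⁻¹ : GL (Fin 2) F) : Matrix (Fin 2) (Fin 2) F)) +
        ((R : Matrix (Fin 2) (Fin 2) F) * y * ((P⁻¹ : GL (Fin 2) F) : Matrix (Fin 2) (Fin 2) F)) *
        adjugate ((P : Matrix (Fin 2) (Fin 2) F) * u * ((P⁻¹ : GL (Fin 2) F) : Matrix (Fin 2) (Fin 2) F)) := by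
  set p : Matrix (Fin 2) (Fin 2) F := (P : Matrix (Fin 2) (Fin 2) F) with hp
  set r : Matrix (Fin 2) (Fin 2) F := (R : Matrix (Fin 2) (Fin 2) F) with hr
  set p' : Matrix (Fin 2) (Fin 2) F := ((P⁻¹ : GL (Fin 2) F) : Matrix (Fin 2) (Fin 2) F) with hp'
  have e1 : p' * p = 1 := by rw [hp, hp', ← Units.val_mul, inv_mul_cancel, Units.val_one]
  have e2 : p * p' = 1 := by rw [hp, hp', ← Units.val_mul, mul_inv_cancel, Units.val_one]
  have hdp : p.det * p'.det = 1 := by rw [← Matrix.det_mul, e2, Matrix.det_one]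
  -- adjugate p' * adjugate p = 1
  have a1 : adjugate p' * adjugate p = 1 := by
    rw [← Matrix.adjugate_mul_distrib, e2, Matrix.adjugate_one]
  have a2 : adjugate p' = p'.det • p := by
    have : adjugate p' * p' = p'.det • 1 := Matrix.adjugate_mul p'
    calc adjugate p' = adjugate p' * (p' * p) := by rw [e1, mul_one]
      _ = (adjugate p' * p') * p := by rw [mul_assoc]
      _ = p'.det • p := by rw [this, Matrix.smul_mul, one_mul]
  have a3 : adjugate p = p.det • p' := by
    have : adjugate p * p = p.det • 1 := Matrix.adjugate_mul p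
    calc adjugate p = adjugate p * (p * p') := by rw [e2, mul_one]
      _ = (adjugate p * p) * p' := by rw [mul_assoc]
      _ = p.det • p' := by rw [this, Matrix.smul_mul, one_mul]
  have a4 : adjugate r * r = p.det • 1 := by rw [Matrix.adjugate_mul, hd]
  constructor
  · rw [Matrix.adjugate_mul_distrib, Matrix.adjugate_mul_distrib, a2]
    have t1 : p * x * p' * (p * u * p') = p * (x * u) * p' := by
      calc p * x * p' * (p * u * p') = p * x * (p' * p) * u * p' := by simp only [mul_assoc]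
        _ = p * (x * u) * p' := by rw [e1, mul_one]; simp only [mul_assoc]
    have t2 : p'.det • p * (adjugate v * adjugate r) * (r * y * p') = p * (adjugate v * y) * p' := by
      calc p'.det • p * (adjugate v * adjugate r) * (r * y * p')
          = p'.det • (p * adjugate v * (adjugate r * r) * y * p') := by
            simp only [Matrix.smul_mul, mul_assoc]
        _ = (p'.det * p.det) • (p * (adjugate v * y) * p') := by
            rw [a4]
            simp only [Matrix.mul_smul, Matrix.smul_mul, mul_one, smul_smul, mul_assoc]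
        _ = _ := by rw [mul_comm, hdp, one_smul]
    rw [t1, t2, mul_add, add_mul]
  · rw [Matrix.adjugate_mul_distrib, Matrix.adjugate_mul_distrib, a2, a3]
    have t1 : r * v * p' * (p * x * p') = r * (v * x) * p' := by
      calc r * v * p' * (p * x * p') = r * v * (p' * p) * x * p' := by simp only [mul_assoc]
        _ = r * (v * x) * p' := by rw [e1, mul_one]; simp only [mul_assoc]
    have t2 : r * y * p' * (p'.det • p * (adjugate u * p.det • p')) = r * (y * adjugate u) * p' := by
      calc r * y * p' * (p'.det • p * (adjugate u * p.det • p'))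
          = (p.det * p'.det) • (r * y * (p' * p) * adjugate u * p') := by
            simp only [Matrix.mul_smul, Matrix.smul_mul, smul_smul, mul_assoc]
        _ = _ := by rw [hdp, one_smul, e1, mul_one]; simp only [mul_assoc]
    rw [t1, t2, mul_add, add_mul]

theorem exists_Phi : ∃ Φ : MM F →* G2 F, IsPhi Φ := by
  obtain ⟨φ, hφ⟩ := exists_hom (F := F) (M := MM F)
    (fun m => cdMap (m.1.1 : Matrix (Fin 2) (Fin 2) F)
      ((m.1.1⁻¹ : GL (Fin 2) F) : Matrix (Fin 2) (Fin 2) F) (m.1.2 : Matrix (Fin 2) (Fin 2) F))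
    (by
      intro w
      rw [← psi_cd w, cdMap_psi]
      simp)
    (by
      intro m m' w
      rw [← psi_cd w, cdMap_psi, cdMap_psi, cdMap_psi]
      congr 1 <;> simp [mul_assoc])
    (by
      intro m w w'
      rw [← psi_cd w, ← psi_cd w', zornMul_psi, cdMap_psi, cdMap_psi, cdMap_psi, zornMul_psi]
      have hd : (m.1.1 : Matrix (Fin 2) (Fin 2) F).det = (m.1.2 : Matrix (Fin 2) (Fin 2) F).det := by
        have := m.2
        have h2 : GeneralLinearGroup.det m.1.1 = GeneralLinearGroup.det m.1.2 := this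
        have h3 := congrArg Units.val h2
        simpa using h3
      obtain ⟨h1, h2⟩ := o3_aut m.1.1 m.1.2 hd (cdX w) (cdY w) (cdX w') (cdY w')
      rw [h1, h2])
  exact ⟨φ, fun m x y => by rw [hφ, cdMap_psi]⟩

end Cfsg.Agent.Lib.Helper90.G2S
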