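import Cfsg.Agent.Lib.Helper90.G2S.O1
import Cfsg.Agent.Lib.Helper90.G2S.O2

set_option autoImplicit false

namespace Cfsg.Agent.Lib.Helper90.G2S

open Cfsg.Lie Matrix Cfsg.Agent.Lib.Helper90.Syl2
open scoped MatrixGroups

variable {F : Type*} [Field F]

/-- O3K. -/
theorem ker_Phi {Φ : MM F →* G2 F} (hΦ : IsPhi Φ) (m : MM F) (hm : Φ m = 1) :
    ∃ c : F, (m.1.1 : Matrix (Fin 2) (Fin 2) F) = c • 1 ∧ (m.1.2 : Matrix (Fin 2) (Fin 2) F) = c • 1 := by
  have key : ∀ x y : Matrix (Fin 2) (Fin 2) F,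
      (m.1.1 : Matrix (Fin 2) (Fin 2) F) * x *
        ((m.1.1⁻¹ : GL (Fin 2) F) : Matrix (Fin 2) (Fin 2) F) = x ∧
      (m.1.2 : Matrix (Fin 2) (Fin 2) F) * y *
        ((m.1.1⁻¹ : GL (Fin 2) F) : Matrix (Fin 2) (Fin 2) F) = y := by
    intro x y
    have h := hΦ m x y
    rw [hm, act_one] at h
    exact psi_inj h.symm
  have hinv : ((m.1.1⁻¹ : GL (Fin 2) F) : Matrix (Fin 2) (Fin 2) F) *
      (m.1.1 : Matrix (Fin 2) (Fin 2) F) = 1 := Units.inv_mul _
  set P := (m.1.1 : Matrix (Fin 2) (Fin 2) F) with hP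
  set R := (m.1.2 : Matrix (Fin 2) (Fin 2) F) with hR
  set Pi := ((m.1.1⁻¹ : GL (Fin 2) F) : Matrix (Fin 2) (Fin 2) F) with hPi
  have hcomm : ∀ x, P * x = x * P := by
    intro x
    have := congrArg (· * P) (key x 0).1
    simp only [mul_assoc, hinv, mul_one] at this
    exact this
  have hRP : R = P := by
    have := congrArg (· * P) (key 0 1).2
    simp only [mul_assoc, hinv, mul_one, one_mul] at this
    exact this
  have e1 := hcomm !![1, 0; 0, 0]
  have e2 := hcomm !![0, 1; 0, 0]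
  have a1 := congrFun (congrFun e1 0) 1
  have a2 := congrFun (congrFun e1 1) 0
  have a3 := congrFun (congrFun e2 0) 1
  simp [Matrix.mul_apply, Fin.sum_univ_two] at a1 a2 a3
  have hPs : P = P 0 0 • 1 := by
    ext i j
    fin_cases i <;> fin_cases j <;> simp [← a1, a2, ← a3]
  exact ⟨P 0 0, hPs, by rw [hRP]; exact hPs⟩

end Cfsg.Agent.Lib.Helper90.G2S
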