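import Cfsg.Agent.Lib.Helper90.G2S.O1

/-!
Ladder G2SYL (helper90), rung O4 (helper86): `SL₃(F)` acts on the Zorn algebra.
-/

set_option autoImplicit false
set_option linter.unusedSectionVars false

namespace Cfsg.Agent.Lib.Helper90.G2S

open Cfsg.Lie Matrix Cfsg.Agent.Lib.Helper90.Syl2
open scoped MatrixGroups

variable {F : Type*} [Field F]

theorem O4_zornMul_zv (α β γ δ : F) (a b c d : Fin 3 → F) :
    zornMul (zv α a b β) (zv γ c d δ) =
      zv (α * γ + dot3 a d) (α • c + δ • a - cross3 b d) (γ • b + β • d + cross3 a c)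
        (dot3 b c + β * δ) := by
  ext i
  fin_cases i <;> simp [zornMul, zv, dot3, cross3]

theorem O4_zv_self (w : Fin 8 → F) :
    zv (w 0) ![w 1, w 2, w 3] ![w 4, w 5, w 6] (w 7) = w := by
  ext i
  fin_cases i <;> simp [zv]

theorem O4_vec3 (a : Fin 3 → F) : ![a 0, a 1, a 2] = a := by
  ext i
  fin_cases i <;> simp

theorem O4_dot (s : SpecialLinearGroup (Fin 3) F) (a d : Fin 3 → F) :
    dot3 ((s : Matrix (Fin 3) (Fin 3) F) *ᵥ a)
      (((s⁻¹ : SpecialLinearGroup (Fin 3) F) : Matrix (Fin 3) (Fin 3) F)ᵀ *ᵥ d) = dot3 a d := by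
  have hdet : (s : Matrix (Fin 3) (Fin 3) F).det = 1 := s.2
  have hinv : ((s⁻¹ : SpecialLinearGroup (Fin 3) F) : Matrix (Fin 3) (Fin 3) F)
      = adjugate (s : Matrix (Fin 3) (Fin 3) F) := Matrix.SpecialLinearGroup.coe_inv s
  rw [hinv]
  generalize (s : Matrix (Fin 3) (Fin 3) F) = M at hdet
  rw [Matrix.det_fin_three] at hdet
  rw [Matrix.adjugate_fin_three]
  simp [dot3, Matrix.mulVec, dotProduct, Fin.sum_univ_three]
  linear_combination (a 0 * d 0 + a 1 * d 1 + a 2 * d 2) * hdet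

theorem O4_cross (s : SpecialLinearGroup (Fin 3) F) (a c : Fin 3 → F) :
    cross3 ((s : Matrix (Fin 3) (Fin 3) F) *ᵥ a) ((s : Matrix (Fin 3) (Fin 3) F) *ᵥ c) =
      ((s⁻¹ : SpecialLinearGroup (Fin 3) F) : Matrix (Fin 3) (Fin 3) F)ᵀ *ᵥ cross3 a c := by
  have hinv : ((s⁻¹ : SpecialLinearGroup (Fin 3) F) : Matrix (Fin 3) (Fin 3) F)
      = adjugate (s : Matrix (Fin 3) (Fin 3) F) := Matrix.SpecialLinearGroup.coe_inv s
  rw [hinv]
  generalize (s : Matrix (Fin 3) (Fin 3) F) = M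
  rw [Matrix.adjugate_fin_three]
  ext i
  fin_cases i <;> simp [cross3, Matrix.mulVec, dotProduct, Fin.sum_univ_three] <;> ring

theorem O4_cross' (s : SpecialLinearGroup (Fin 3) F) (b d : Fin 3 → F) :
    cross3 (((s⁻¹ : SpecialLinearGroup (Fin 3) F) : Matrix (Fin 3) (Fin 3) F)ᵀ *ᵥ b)
      (((s⁻¹ : SpecialLinearGroup (Fin 3) F) : Matrix (Fin 3) (Fin 3) F)ᵀ *ᵥ d) =
      (s : Matrix (Fin 3) (Fin 3) F) *ᵥ cross3 b d := by
  have hdet : (s : Matrix (Fin 3) (Fin 3) F).det = 1 := s.2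
  have hinv : ((s⁻¹ : SpecialLinearGroup (Fin 3) F) : Matrix (Fin 3) (Fin 3) F)
      = adjugate (s : Matrix (Fin 3) (Fin 3) F) := Matrix.SpecialLinearGroup.coe_inv s
  rw [hinv]
  generalize (s : Matrix (Fin 3) (Fin 3) F) = M at hdet
  rw [Matrix.det_fin_three] at hdet
  rw [Matrix.adjugate_fin_three]
  ext i
  fin_cases i
  · simp [cross3, Matrix.mulVec, dotProduct, Fin.sum_univ_three]
    linear_combination (M 0 0 * (b 1 * d 2 - b 2 * d 1) + M 0 1 * (b 2 * d 0 - b 0 * d 2) + M 0 2 * (b 0 * d 1 - b 1 * d 0)) * hdet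
  · simp [cross3, Matrix.mulVec, dotProduct, Fin.sum_univ_three]
    linear_combination (M 1 0 * (b 1 * d 2 - b 2 * d 1) + M 1 1 * (b 2 * d 0 - b 0 * d 2) + M 1 2 * (b 0 * d 1 - b 1 * d 0)) * hdet
  · simp [cross3, Matrix.mulVec, dotProduct, Fin.sum_univ_three]
    linear_combination (M 2 0 * (b 1 * d 2 - b 2 * d 1) + M 2 1 * (b 2 * d 0 - b 0 * d 2) + M 2 2 * (b 0 * d 1 - b 1 * d 0)) * hdet


/-- the linear map `[[α, a], [b, β]] ↦ [[α, s a], [s⁻ᵀ b, β]]`. -/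
def O4_E (s : SpecialLinearGroup (Fin 3) F) : (Fin 8 → F) →ₗ[F] (Fin 8 → F) where
  toFun w := zv (w 0) ((s : Matrix (Fin 3) (Fin 3) F) *ᵥ ![w 1, w 2, w 3])
    (((s⁻¹ : SpecialLinearGroup (Fin 3) F) : Matrix (Fin 3) (Fin 3) F)ᵀ *ᵥ ![w 4, w 5, w 6]) (w 7)
  map_add' x y := by
    ext i
    fin_cases i <;> simp [zv, Matrix.mulVec, dotProduct, Fin.sum_univ_three] <;> ring
  map_smul' c x := by
    ext i
    fin_cases i <;> simp [zv, Matrix.mulVec, dotProduct, Fin.sum_univ_three] <;> ring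

theorem O4_E_zv (s : SpecialLinearGroup (Fin 3) F) (α β : F) (a b : Fin 3 → F) :
    O4_E s (zv α a b β) = zv α ((s : Matrix (Fin 3) (Fin 3) F) *ᵥ a)
      (((s⁻¹ : SpecialLinearGroup (Fin 3) F) : Matrix (Fin 3) (Fin 3) F)ᵀ *ᵥ b) β := by
  have h1 : ![(zv α a b β) 1, (zv α a b β) 2, (zv α a b β) 3] = a := by
    ext i
    fin_cases i <;> simp [zv]
  have h2 : ![(zv α a b β) 4, (zv α a b β) 5, (zv α a b β) 6] = b := by
    ext i
    fin_cases i <;> simp [zv]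
  have h0 : (zv α a b β) 0 = α := by simp [zv]
  have h7 : (zv α a b β) 7 = β := by simp [zv]
  change zv ((zv α a b β) 0) ((s : Matrix (Fin 3) (Fin 3) F) *ᵥ
      ![(zv α a b β) 1, (zv α a b β) 2, (zv α a b β) 3])
    (((s⁻¹ : SpecialLinearGroup (Fin 3) F) : Matrix (Fin 3) (Fin 3) F)ᵀ *ᵥ
      ![(zv α a b β) 4, (zv α a b β) 5, (zv α a b β) 6]) ((zv α a b β) 7) = _
  rw [h1, h2, h0, h7]

theorem exists_iota : ∃ ι : SpecialLinearGroup (Fin 3) F →* G2 F, ∀ s, ActsAs (ι s) s := by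
  obtain ⟨φ, hφ⟩ := exists_hom (F := F) (M := SpecialLinearGroup (Fin 3) F) O4_E
    (by
      intro x
      rw [← O4_zv_self x, O4_E_zv]
      simp)
    (by
      intro m m' x
      rw [← O4_zv_self x, O4_E_zv, O4_E_zv, O4_E_zv]
      simp [Matrix.mulVec_mulVec, Matrix.transpose_mul])
    (by
      intro m x y
      have hc : ∀ u v : Fin 3 → F, dot3 u v = dot3 v u := by
        intro u v
        simp only [dot3]
        ring
      rw [← O4_zv_self x, ← O4_zv_self y, O4_zornMul_zv, O4_E_zv, O4_E_zv, O4_E_zv,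
        O4_zornMul_zv, O4_dot, O4_cross, O4_cross', hc (_ᵀ *ᵥ _) _, O4_dot, hc ![y 1, y 2, y 3]]
      simp only [Matrix.mulVec_add, Matrix.mulVec_sub, Matrix.mulVec_smul])
  exact ⟨φ, fun s α β a b => by rw [hφ, O4_E_zv]⟩

end Cfsg.Agent.Lib.Helper90.G2S
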