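import Cfsg.Agent.Lib.Helper90.G2S.O1

/-! Ladder G2SYL, rung O5 (helper75): the stabiliser of `e₁` in `G₂(F)` acts as `SL₃(F)`. -/

set_option autoImplicit false

namespace Cfsg.Agent.Lib.Helper90.G2S

open Cfsg.Lie Matrix Cfsg.Agent.Lib.Helper90.Syl2
open scoped MatrixGroups

variable {F : Type*} [Field F]

theorem O5_one_mul (y : Fin 8 → F) : zornMul one8 y = y := by
  ext i; fin_cases i <;> simp [zornMul, one8, dot3, cross3]

theorem O5_mul_one (y : Fin 8 → F) : zornMul y one8 = y := by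
  ext i; fin_cases i <;> simp [zornMul, one8, dot3, cross3]

theorem act_one8 (g : G2 F) : act g one8 = one8 := by
  have h1 : act g (act g⁻¹ one8) = one8 := by
    rw [← act_mul, mul_inv_cancel, act_one]
  have h2 := act_zornMul g one8 (act g⁻¹ one8)
  rw [O5_one_mul, h1, O5_mul_one] at h2
  exact h2.symm

theorem O5_typeA (x : Fin 8 → F) (h1 : zornMul e1 x = x) (h2 : zornMul x e1 = 0) :
    x 0 = 0 ∧ x 4 = 0 ∧ x 5 = 0 ∧ x 6 = 0 ∧ x 7 = 0 := by
  have a0 := congrFun h2 0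
  have a4 := congrFun h1 4
  have a5 := congrFun h1 5
  have a6 := congrFun h1 6
  have a7 := congrFun h1 7
  simp [zornMul, e1, dot3, cross3] at a0 a4 a5 a6 a7
  exact ⟨a0, a4.symm, a5.symm, a6.symm, a7.symm⟩

theorem O5_typeB (x : Fin 8 → F) (h1 : zornMul x e1 = x) (h2 : zornMul e1 x = 0) :
    x 0 = 0 ∧ x 1 = 0 ∧ x 2 = 0 ∧ x 3 = 0 ∧ x 7 = 0 := by
  have a0 := congrFun h2 0
  have a4 := congrFun h1 1
  have a5 := congrFun h1 2
  have a6 := congrFun h1 3
  have a7 := congrFun h1 7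
  simp [zornMul, e1, dot3, cross3] at a0 a4 a5 a6 a7
  exact ⟨a0, a4.symm, a5.symm, a6.symm, a7.symm⟩

theorem O5_zero (g : G2 F) : act g 0 = 0 := by
  simp [act]

theorem O5_A (g : G2 F) (hg : act g e1 = e1) (a : Fin 3 → F) :
    ∃ a' : Fin 3 → F, act g (zv 0 a 0 0) = zv 0 a' 0 0 := by
  have h1 : zornMul e1 (zv 0 a 0 0) = zv 0 a 0 0 := by
    ext i; fin_cases i <;> simp [zornMul, e1, zv, dot3, cross3]
  have h2 : zornMul (zv 0 a 0 0) e1 = 0 := by
    ext i; fin_cases i <;> simp [zornMul, e1, zv, dot3, cross3]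
  have h3 := act_zornMul g e1 (zv 0 a 0 0)
  have h4 := act_zornMul g (zv 0 a 0 0) e1
  rw [h1, hg] at h3
  rw [h2, hg, O5_zero] at h4
  obtain ⟨b0, b4, b5, b6, b7⟩ := O5_typeA _ h3.symm h4.symm
  refine ⟨![act g (zv 0 a 0 0) 1, act g (zv 0 a 0 0) 2, act g (zv 0 a 0 0) 3], ?_⟩
  generalize act g (zv 0 a 0 0) = y at *
  ext i; fin_cases i <;> simp [zv, b0, b4, b5, b6, b7]

theorem O5_B (g : G2 F) (hg : act g e1 = e1) (b : Fin 3 → F) :
    ∃ b' : Fin 3 → F, act g (zv 0 0 b 0) = zv 0 0 b' 0 := by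
  have h1 : zornMul (zv 0 0 b 0) e1 = zv 0 0 b 0 := by
    ext i; fin_cases i <;> simp [zornMul, e1, zv, dot3, cross3]
  have h2 : zornMul e1 (zv 0 0 b 0) = 0 := by
    ext i; fin_cases i <;> simp [zornMul, e1, zv, dot3, cross3]
  have h3 := act_zornMul g (zv 0 0 b 0) e1
  have h4 := act_zornMul g e1 (zv 0 0 b 0)
  rw [h1, hg] at h3
  rw [h2, hg, O5_zero] at h4
  obtain ⟨b0, b4, b5, b6, b7⟩ := O5_typeB _ h3.symm h4.symm
  refine ⟨![act g (zv 0 0 b 0) 4, act g (zv 0 0 b 0) 5, act g (zv 0 0 b 0) 6], ?_⟩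
  generalize act g (zv 0 0 b 0) = y at *
  ext i; fin_cases i <;> simp [zv, b0, b4, b5, b6, b7]

/-- the upper block. -/
def O5M (g : G2 F) : Matrix (Fin 3) (Fin 3) F :=
  ((g : GL (Fin 8) F) : Matrix (Fin 8) (Fin 8) F).submatrix ![1, 2, 3] ![1, 2, 3]

/-- the lower block. -/
def O5M' (g : G2 F) : Matrix (Fin 3) (Fin 3) F :=
  ((g : GL (Fin 8) F) : Matrix (Fin 8) (Fin 8) F).submatrix ![4, 5, 6] ![4, 5, 6]

theorem O5_A2 (g : G2 F) (hg : act g e1 = e1) (a : Fin 3 → F) :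
    act g (zv 0 a 0 0) = zv 0 (O5M g *ᵥ a) 0 0 := by
  obtain ⟨a', ha'⟩ := O5_A g hg a
  rw [ha']
  have c0 := congrFun ha' 1
  have c1 := congrFun ha' 2
  have c2 := congrFun ha' 3
  have : a' = O5M g *ᵥ a := by
    ext i; fin_cases i
    · simp [act, zv, mulVec, dotProduct, Fin.sum_univ_succ, O5M] at c0 ⊢
      exact c0.symm
    · simp [act, zv, mulVec, dotProduct, Fin.sum_univ_succ, O5M] at c1 ⊢
      exact c1.symm
    · simp [act, zv, mulVec, dotProduct, Fin.sum_univ_succ, O5M] at c2 ⊢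
      exact c2.symm
  rw [this]

theorem O5_B2 (g : G2 F) (hg : act g e1 = e1) (b : Fin 3 → F) :
    act g (zv 0 0 b 0) = zv 0 0 (O5M' g *ᵥ b) 0 := by
  obtain ⟨a', ha'⟩ := O5_B g hg b
  rw [ha']
  have c0 := congrFun ha' 4
  have c1 := congrFun ha' 5
  have c2 := congrFun ha' 6
  have : a' = O5M' g *ᵥ b := by
    ext i; fin_cases i
    · simp [act, zv, mulVec, dotProduct, Fin.sum_univ_succ, O5M'] at c0 ⊢
      exact c0.symm
    · simp [act, zv, mulVec, dotProduct, Fin.sum_univ_succ, O5M'] at c1 ⊢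
      exact c1.symm
    · simp [act, zv, mulVec, dotProduct, Fin.sum_univ_succ, O5M'] at c2 ⊢
      exact c2.symm
  rw [this]

theorem O5_zv (α β : F) (a b : Fin 3 → F) :
    zv α a b β = (α - β) • e1 + zv 0 a 0 0 + zv 0 0 b 0 + β • one8 := by
  ext i; fin_cases i <;> simp [zv, e1, one8]

theorem O5_full (g : G2 F) (hg : act g e1 = e1) (α β : F) (a b : Fin 3 → F) :
    act g (zv α a b β) = zv α (O5M g *ᵥ a) (O5M' g *ᵥ b) β := by
  rw [O5_zv, act_add, act_add, act_add, act_smul, act_smul, hg, act_one8, O5_A2 g hg, O5_B2 g hg,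
    ← O5_zv]

theorem O5_R1 (g : G2 F) (hg : act g e1 = e1) (a d : Fin 3 → F) :
    dot3 (O5M g *ᵥ a) (O5M' g *ᵥ d) = dot3 a d := by
  have key : ∀ a d : Fin 3 → F, zornMul (zv 0 a 0 0) (zv 0 0 d 0) = dot3 a d • e1 := by
    intro a d
    ext i; fin_cases i <;> simp [zornMul, e1, zv, dot3, cross3]
  have h := act_zornMul g (zv 0 a 0 0) (zv 0 0 d 0)
  rw [O5_A2 g hg, O5_B2 g hg, key, key, act_smul, hg] at h
  have h0 := congrFun h 0
  simpa [e1] using h0.symm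

theorem O5_R2 (g : G2 F) (hg : act g e1 = e1) (a c : Fin 3 → F) :
    cross3 (O5M g *ᵥ a) (O5M g *ᵥ c) = O5M' g *ᵥ cross3 a c := by
  have key : ∀ a c : Fin 3 → F, zornMul (zv 0 a 0 0) (zv 0 c 0 0) = zv 0 0 (cross3 a c) 0 := by
    intro a c
    ext i; fin_cases i <;> simp [zornMul, zv, dot3, cross3]
  have h := act_zornMul g (zv 0 a 0 0) (zv 0 c 0 0)
  rw [O5_A2 g hg, O5_A2 g hg, key, key, O5_B2 g hg] at h
  have h0 := congrFun h 4
  have h1 := congrFun h 5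
  have h2 := congrFun h 6
  ext i; fin_cases i
  · simpa [zv] using h0.symm
  · simpa [zv] using h1.symm
  · simpa [zv] using h2.symm

theorem O5_trans_mul (g : G2 F) (hg : act g e1 = e1) : (O5M' g)ᵀ * O5M g = 1 := by
  ext i j
  have h := O5_R1 g hg (Pi.single j 1) (Pi.single i 1)
  rw [Matrix.mulVec_single_one, Matrix.mulVec_single_one] at h
  rw [Matrix.mul_apply, Fin.sum_univ_three]
  simp only [dot3, Matrix.col_apply, Matrix.transpose_apply] at h ⊢
  rw [Matrix.one_apply]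
  have h2 : (Pi.single j (1:F) : Fin 3 → F) 0 * (Pi.single i (1:F) : Fin 3 → F) 0 +
      (Pi.single j (1:F) : Fin 3 → F) 1 * (Pi.single i (1:F) : Fin 3 → F) 1 +
      (Pi.single j (1:F) : Fin 3 → F) 2 * (Pi.single i (1:F) : Fin 3 → F) 2 =
      if i = j then 1 else 0 := by
    fin_cases i <;> fin_cases j <;> simp
  rw [← h2, ← h]; ring

theorem O5_det (g : G2 F) (hg : act g e1 = e1) : (O5M g).det = 1 := by
  have h2 := O5_R2 g hg (Pi.single 0 1) (Pi.single 1 1)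
  have hc : cross3 (Pi.single 0 (1:F) : Fin 3 → F) (Pi.single 1 1) = Pi.single 2 1 := by
    ext i; fin_cases i <;> simp [cross3]
  rw [hc, Matrix.mulVec_single_one, Matrix.mulVec_single_one, Matrix.mulVec_single_one] at h2
  have h1 := O5_R1 g hg (Pi.single 2 1) (Pi.single 2 1)
  rw [Matrix.mulVec_single_one, Matrix.mulVec_single_one, ← h2] at h1
  rw [Matrix.det_fin_three]
  simp [dot3, cross3] at h1
  linear_combination h1

theorem stab_e1 (g : G2 F) (hg : act g e1 = e1) : ∃ s, ActsAs g s := by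
  obtain ⟨s, hs⟩ : ∃ s : SpecialLinearGroup (Fin 3) F,
      (s : Matrix (Fin 3) (Fin 3) F) = O5M g := ⟨⟨O5M g, O5_det g hg⟩, rfl⟩
  refine ⟨s, ?_⟩
  intro α β a b
  rw [O5_full g hg]
  have h : ((s⁻¹ : SpecialLinearGroup (Fin 3) F) : Matrix (Fin 3) (Fin 3) F)ᵀ = O5M' g := by
    have h0 : ((s⁻¹ : SpecialLinearGroup (Fin 3) F) : Matrix (Fin 3) (Fin 3) F) =
        adjugate (O5M g) := by
      rw [← hs]; exact Matrix.SpecialLinearGroup.coe_inv s
    rw [h0]
    have h1 : (O5M' g)ᵀ = adjugate (O5M g) := by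
      calc (O5M' g)ᵀ = (O5M' g)ᵀ * (O5M g * adjugate (O5M g)) := by
            rw [Matrix.mul_adjugate, O5_det g hg, one_smul, mul_one]
        _ = adjugate (O5M g) := by rw [← mul_assoc, O5_trans_mul g hg, one_mul]
    rw [← h1, Matrix.transpose_transpose]
  rw [h, hs]

end Cfsg.Agent.Lib.Helper90.G2S
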