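import Cfsg.Agent.Lib.Helper90.G2S.O1
import Cfsg.Agent.Lib.Helper90.G2S.O5

set_option autoImplicit false

namespace Cfsg.Agent.Lib.Helper90.G2S

open Cfsg.Lie Matrix Cfsg.Agent.Lib.Helper90.Syl2
open scoped MatrixGroups

variable {F : Type*} [Field F]

theorem o6_sq (f : Fin 8 → F) : zornMul f f =
    ![f 0 * f 0 + (f 1 * f 4 + f 2 * f 5 + f 3 * f 6), (f 0 + f 7) * f 1, (f 0 + f 7) * f 2,
      (f 0 + f 7) * f 3, (f 0 + f 7) * f 4, (f 0 + f 7) * f 5, (f 0 + f 7) * f 6,
      (f 1 * f 4 + f 2 * f 5 + f 3 * f 6) + f 7 * f 7] := by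
  ext i
  fin_cases i <;> simp [zornMul, dot3, cross3] <;> ring

theorem mem_Idem_iff (f : Fin 8 → F) : f ∈ Idem F ↔ zornMul f f = f ∧ f ≠ 0 ∧ f ≠ one8 := by
  constructor
  · rintro ⟨hT, hN⟩
    refine ⟨?_, ?_, ?_⟩
    · rw [o6_sq, hT, ← hN]
      ext i
      fin_cases i <;> simp
      · linear_combination f 0 * hT
      · linear_combination f 7 * hT
    · rintro rfl
      simp at hT
    · rintro rfl
      simp [one8] at hT
  · rintro ⟨hsq, h0, h1⟩
    rw [o6_sq] at hsq
    have e0 := congrFun hsq 0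
    have e1 := congrFun hsq 1
    have e2 := congrFun hsq 2
    have e3 := congrFun hsq 3
    have e4 := congrFun hsq 4
    have e5 := congrFun hsq 5
    have e6 := congrFun hsq 6
    have e7 := congrFun hsq 7
    simp at e0 e1 e2 e3 e4 e5 e6 e7
    by_cases hT : f 0 + f 7 = 1
    · refine ⟨hT, ?_⟩
      linear_combination f 0 * hT - e0
    · exfalso
      have hz : ∀ x : F, (f 0 + f 7) * x = x → x = 0 := by
        intro x hx
        have : (f 0 + f 7 - 1) * x = 0 := by linear_combination hx
        rcases mul_eq_zero.1 this with h | h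
        · exact absurd (sub_eq_zero.1 h) hT
        · exact h
      have z1 : f 1 = 0 := hz _ e1
      have z2 : f 2 = 0 := hz _ e2
      have z3 : f 3 = 0 := hz _ e3
      have z4 : f 4 = 0 := hz _ e4
      have z5 : f 5 = 0 := hz _ e5
      have z6 : f 6 = 0 := hz _ e6
      rw [z1, z2, z3] at e0 e7
      have a0 : f 0 * (f 0 - 1) = 0 := by linear_combination e0
      have a7 : f 7 * (f 7 - 1) = 0 := by linear_combination e7
      rcases mul_eq_zero.1 a0 with b0 | b0 <;> rcases mul_eq_zero.1 a7 with b7 | b7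
      · apply h0
        ext i
        fin_cases i <;> simp [*]
      · apply hT
        linear_combination b0 + b7
      · apply hT
        linear_combination b0 + b7
      · apply h1
        have c0 : f 0 = 1 := sub_eq_zero.1 b0
        have c7 : f 7 = 1 := sub_eq_zero.1 b7
        ext i
        fin_cases i <;> simp [one8, *]

theorem o6_inv_act (g : G2 F) (x : Fin 8 → F) : act g⁻¹ (act g x) = x := by
  rw [← act_mul, inv_mul_cancel, act_one]

theorem o6_act_zero (g : G2 F) : act g (0 : Fin 8 → F) = 0 := by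
  have := act_smul g 0 (0 : Fin 8 → F)
  rwa [zero_smul, zero_smul] at this

theorem act_mem_Idem (g : G2 F) {f : Fin 8 → F} (hf : f ∈ Idem F) : act g f ∈ Idem F := by
  rw [mem_Idem_iff] at hf ⊢
  obtain ⟨h1, h2, h3⟩ := hf
  refine ⟨by rw [← act_zornMul, h1], ?_, ?_⟩
  · intro h
    apply h2
    rw [← o6_inv_act g f, h, o6_act_zero]
  · intro h
    apply h3
    rw [← o6_inv_act g f, h, act_one8]

end Cfsg.Agent.Lib.Helper90.G2S
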