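import Cfsg.Agent.Lib.Helper90.G2S.Defs

/-! Ladder G2SYL, rung O7 (helper75): the number of non-trivial idempotents of the Zorn algebra. -/

set_option autoImplicit false

namespace Cfsg.Agent.Lib.Helper90.G2S

open Cfsg.Lie Matrix Cfsg.Agent.Lib.Helper90.Syl2
open scoped MatrixGroups

variable {F : Type*} [Field F]

open Finset in
theorem O7_hyper [Fintype F] [DecidableEq F] (a : Fin 3 → F) (ha : a ≠ 0) (s : F) :
    #{b : Fin 3 → F | a ⬝ᵥ b = s} = Fintype.card F ^ 2 := by
  let f : (Fin 3 → F) →+ F := AddMonoidHom.mk' (fun b => a ⬝ᵥ b) (fun x y => dotProduct_add a x y)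
  have hf : ∀ b, f b = a ⬝ᵥ b := fun b => rfl
  obtain ⟨i, hi⟩ : ∃ i, a i ≠ 0 := by
    by_contra hcon
    push Not at hcon
    exact ha (funext hcon)
  have hsurj : ∀ s, s ∈ Set.range f := by
    intro s
    refine ⟨Pi.single i (s / a i), ?_⟩
    rw [hf, dotProduct_single]
    field_simp
  have heq : ∀ t, #{b : Fin 3 → F | f b = t} = #{b : Fin 3 → F | f b = s} := fun t =>
    AddMonoidHom.card_fiber_eq_of_mem_range f (hsurj t) (hsurj s)
  have htot : #(univ : Finset (Fin 3 → F)) = ∑ t : F, #{b ∈ (univ : Finset (Fin 3 → F)) | f b = t} :=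
    Finset.card_eq_sum_card_fiberwise (f := f) (s := univ) (t := univ) (by intro x _; simp)
  rw [Finset.sum_congr rfl (fun t _ => heq t), Finset.sum_const, Finset.card_univ, Finset.card_univ,
    Fintype.card_pi, Finset.prod_const, Finset.card_univ, Fintype.card_fin, smul_eq_mul] at htot
  have hq : 0 < Fintype.card F := Fintype.card_pos
  have h2 : Fintype.card F * #{b : Fin 3 → F | f b = s} = Fintype.card F * Fintype.card F ^ 2 := by
    rw [← htot]; ring
  exact Nat.eq_of_mul_eq_mul_left hq h2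

open Finset in
theorem O7_zero [Fintype F] [DecidableEq F] (s : F) :
    #{b : Fin 3 → F | (0 : Fin 3 → F) ⬝ᵥ b = s} = if s = 0 then Fintype.card F ^ 3 else 0 := by
  split_ifs with h
  · subst h
    simp [Finset.card_univ]
  · simp [Ne.symm h]

/-- the parametrisation of idempotents. -/
def O7_equiv : Idem F ≃ {x : (F × (Fin 3 → F)) × (Fin 3 → F) // x.1.2 ⬝ᵥ x.2 = x.1.1 * (1 - x.1.1)} where
  toFun x := ⟨((x.1 0, ![x.1 1, x.1 2, x.1 3]), ![x.1 4, x.1 5, x.1 6]), by
    obtain ⟨h1, h2⟩ := x.2
    have h3 : x.1 7 = 1 - x.1 0 := by linear_combination h1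
    simp only [dotProduct, Fin.sum_univ_three]
    simp
    rw [← h3, h2]⟩
  invFun p := ⟨zv p.1.1.1 p.1.1.2 p.1.2 (1 - p.1.1.1), by
    have h := p.2
    simp only [dotProduct, Fin.sum_univ_three] at h
    refine ⟨?_, ?_⟩
    · simp [zv]
    · simp [zv]
      rw [← h]⟩
  left_inv x := by
    obtain ⟨h1, h2⟩ := x.2
    have h3 : x.1 7 = 1 - x.1 0 := by linear_combination h1
    apply Subtype.ext
    ext i; fin_cases i <;> simp [zv, h3]
  right_inv p := by
    apply Subtype.ext
    refine Prod.ext (Prod.ext ?_ ?_) ?_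
    · simp [zv]
    · ext i; fin_cases i <;> simp [zv]
    · ext i; fin_cases i <;> simp [zv]

open Finset in
theorem O7_roots [Fintype F] [DecidableEq F] : #{α : F | α * (1 - α) = 0} = 2 := by
  have : ({α : F | α * (1 - α) = 0} : Finset F) = {0, 1} := by
    ext α
    simp only [mem_filter, mem_univ, true_and, mem_insert, mem_singleton, mul_eq_zero, sub_eq_zero]
    constructor
    · rintro (h | h)
      · exact Or.inl h
      · exact Or.inr h.symm
    · rintro (h | h)
      · exact Or.inl h
      · exact Or.inr h.symm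
  rw [this, Finset.card_pair zero_ne_one]

open Finset in
theorem card_Idem [Fintype F] :
    Nat.card (Idem F) = Fintype.card F ^ 6 + Fintype.card F ^ 3 := by
  classical
  set q := Fintype.card F with hq
  rw [Nat.card_congr (O7_equiv.trans (Equiv.subtypeProdEquivSigmaSubtype
    (fun (u : F × (Fin 3 → F)) (b : Fin 3 → F) => u.2 ⬝ᵥ b = u.1 * (1 - u.1)))),
    Nat.card_eq_fintype_card, Fintype.card_sigma, Fintype.sum_prod_type]
  have hin : ∀ α : F, ∑ a : Fin 3 → F,
      Fintype.card {b : Fin 3 → F // (α, a).2 ⬝ᵥ b = (α, a).1 * (1 - (α, a).1)} =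
      (if α * (1 - α) = 0 then q ^ 3 else 0) + (q ^ 3 - 1) * q ^ 2 := by
    intro α
    rw [← Finset.add_sum_erase univ _ (mem_univ (0 : Fin 3 → F))]
    congr 1
    · rw [Fintype.card_subtype]
      exact O7_zero _
    · rw [Finset.sum_congr rfl (g := fun _ => q ^ 2), Finset.sum_const, Finset.card_erase_of_mem (mem_univ _),
        Finset.card_univ, Fintype.card_pi, Finset.prod_const, Finset.card_univ, Fintype.card_fin,
        smul_eq_mul]
      intro a ha
      rw [Fintype.card_subtype]
      exact O7_hyper a (Finset.ne_of_mem_erase ha) _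
  have hr : ∀ (inst : DecidablePred fun x : F => x * (1 - x) = 0),
      (@Finset.filter F (fun x => x * (1 - x) = 0) inst univ).card = 2 := by
    intro inst
    convert O7_roots (F := F)
  rw [Finset.sum_congr rfl (fun α _ => hin α), Finset.sum_add_distrib, Finset.sum_const,
    Finset.card_univ, smul_eq_mul, Finset.sum_ite, Finset.sum_const, Finset.sum_const, hr,
    smul_eq_mul, smul_zero, add_zero, ← hq]
  have h1 : q ^ 3 - 1 + 1 = q ^ 3 := Nat.sub_add_cancel (Nat.one_le_pow _ _ Fintype.card_pos)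
  generalize q ^ 3 - 1 = m at *
  have h2 : q * (m * q ^ 2) = m * q ^ 3 := by ring
  have h3 : q ^ 6 = q ^ 3 * q ^ 3 := by ring
  rw [h2, h3, ← h1]; ring

end Cfsg.Agent.Lib.Helper90.G2S
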