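import Mathlib
import Cfsg.Agent.Lib.Helper44.SLW.Stab

/-!
Ladder G2SYL (helper90), rung T2 (helper86): `SL₃(F)` moves a nonzero vector to `(1,0,0)`.
-/

set_option autoImplicit false

namespace Cfsg.Agent.Lib.Helper90.G2S

open Matrix
open scoped MatrixGroups

variable {F : Type*} [Field F]

theorem T2_e0 : (Cfsg.Agent.Lib.Helper44.SLW.e0 : Fin (2 + 1) → F) = ![1, 0, 0] := by
  ext i
  fin_cases i <;> simp [Cfsg.Agent.Lib.Helper44.SLW.e0]

theorem exists_sl_a (a : Fin 3 → F) (ha : a ≠ 0) :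
    ∃ s : SpecialLinearGroup (Fin 3) F, (s : Matrix (Fin 3) (Fin 3) F) *ᵥ a = ![1, 0, 0] := by
  obtain ⟨A, hA⟩ := Cfsg.Agent.Lib.Helper44.SLW.exists_mulVec_eq 2 (by norm_num) a ha
  refine ⟨A⁻¹, ?_⟩
  rw [← hA, Matrix.mulVec_mulVec]
  have h : ((A⁻¹ : SpecialLinearGroup (Fin 3) F) : Matrix (Fin 3) (Fin 3) F) * A.1 = 1 := by
    have hinv : ((A⁻¹ : SpecialLinearGroup (Fin 3) F) : Matrix (Fin 3) (Fin 3) F)
      = adjugate A.1 := Matrix.SpecialLinearGroup.coe_inv A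
    rw [hinv, Matrix.adjugate_mul, A.2, one_smul]
  rw [h, Matrix.one_mulVec, T2_e0]

theorem exists_sl_b (b : Fin 3 → F) (hb : b ≠ 0) :
    ∃ s : SpecialLinearGroup (Fin 3) F,
      ((s⁻¹ : SpecialLinearGroup (Fin 3) F) : Matrix (Fin 3) (Fin 3) F)ᵀ *ᵥ b = ![1, 0, 0] := by
  obtain ⟨A, hA⟩ := Cfsg.Agent.Lib.Helper44.SLW.exists_mulVec_eq 2 (by norm_num) b hb
  refine ⟨A.transpose, ?_⟩
  rw [← hA, Matrix.mulVec_mulVec]
  have h : ((A.transpose⁻¹ : SpecialLinearGroup (Fin 3) F) : Matrix (Fin 3) (Fin 3) F)ᵀ * A.1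
      = 1 := by
    have hinv : ((A.transpose⁻¹ : SpecialLinearGroup (Fin 3) F) : Matrix (Fin 3) (Fin 3) F)
      = adjugate (A.1)ᵀ := Matrix.SpecialLinearGroup.coe_inv A.transpose
    rw [hinv, Matrix.adjugate_transpose, Matrix.transpose_transpose, Matrix.adjugate_mul, A.2,
      one_smul]
  rw [h, Matrix.one_mulVec, T2_e0]

end Cfsg.Agent.Lib.Helper90.G2S
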