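import Cfsg.Agent.Lib.Helper90.G2S.T1
import Cfsg.Agent.Lib.Helper90.G2S.T2
import Cfsg.Agent.Lib.Helper90.G2S.O6

/-!
Ladder G2SYL (helper90), rung T3 (helper86): `G₂(F)` is transitive on the idempotents.
-/

set_option autoImplicit false

namespace Cfsg.Agent.Lib.Helper90.G2S

open Cfsg.Lie Matrix Cfsg.Agent.Lib.Helper90.Syl2
open scoped MatrixGroups

variable {F : Type*} [Field F]

theorem T3_mem {f f' : Fin 8 → F} (h : Rel f f') (hf : f ∈ Idem F) : f' ∈ Idem F := by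
  obtain ⟨g, rfl⟩ := h
  exact act_mem_Idem g hf

theorem T3_mem_iff (α β : F) (a b : Fin 3 → F) :
    zv α a b β ∈ Idem F ↔ α + β = 1 ∧ α * β = a 0 * b 0 + a 1 * b 1 + a 2 * b 2 := by
  simp [Idem, zv]

theorem T3_L0 (α β : F) (h : zv α 0 0 β ∈ Idem F) : Rel (zv α 0 0 β) e1 := by
  rw [T3_mem_iff] at h
  obtain ⟨h1, h2⟩ := h
  simp only [Pi.zero_apply, mul_zero, add_zero] at h2
  rcases mul_eq_zero.mp h2 with h0 | h0
  · subst h0
    rw [zero_add] at h1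
    subst h1
    exact rel_swap
  · subst h0
    rw [add_zero] at h1
    subst h1
    have he : (e1 : Fin 8 → F) = zv 1 0 0 0 := by
      ext i
      fin_cases i <;> simp [e1, zv]
    rw [he]
    exact rel_refl _

theorem T3_L1 (α β : F) (a : Fin 3 → F) (h : zv α a 0 β ∈ Idem F) : Rel (zv α a 0 β) e1 := by
  by_cases ha : a = 0
  · subst ha
    exact T3_L0 α β h
  obtain ⟨s, hs⟩ := exists_sl_a a ha
  have r1 := rel_sl s α β a 0
  rw [hs, Matrix.mulVec_zero] at r1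
  have h' := (T3_mem_iff _ _ _ _).mp h
  obtain ⟨h1, h2⟩ := h'
  simp only [Pi.zero_apply, mul_zero, add_zero] at h2
  have hne : β - α ≠ 0 := by
    intro h0
    have : (β - α) ^ 2 = 1 := by
      have : (β - α) ^ 2 = (α + β) ^ 2 - 4 * (α * β) := by ring
      rw [this, h1, h2]
      ring
    rw [h0] at this
    simp at this
  have r2 := rel_up (-(β - α)⁻¹) α β ![1, 0, 0] 0
  have e : zv (α + -(β - α)⁻¹ * (0 : Fin 3 → F) 0)
      ![(![1, 0, 0] : Fin 3 → F) 0 + -(β - α)⁻¹ * (β - α) - (-(β - α)⁻¹) ^ 2 * (0 : Fin 3 → F) 0,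
        (![1, 0, 0] : Fin 3 → F) 1, (![1, 0, 0] : Fin 3 → F) 2]
      ![(0 : Fin 3 → F) 0, (0 : Fin 3 → F) 1 + -(β - α)⁻¹ * (![1, 0, 0] : Fin 3 → F) 2,
        (0 : Fin 3 → F) 2 - -(β - α)⁻¹ * (![1, 0, 0] : Fin 3 → F) 1]
      (β - -(β - α)⁻¹ * (0 : Fin 3 → F) 0) = zv α 0 0 β := by
    ext i
    fin_cases i <;> simp [zv, hne]
  rw [e] at r2
  have r3 := rel_trans r1 r2
  exact rel_trans r3 (T3_L0 α β (T3_mem r3 h))

theorem T3_L2 (α β : F) (a b : Fin 3 → F) (h : zv α a b β ∈ Idem F) (h0 : α * β = 0) :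
    Rel (zv α a b β) e1 := by
  by_cases hb : b = 0
  · subst hb
    exact T3_L1 α β a h
  obtain ⟨s, hs⟩ := exists_sl_b b hb
  have r1 := rel_sl s α β a b
  rw [hs] at r1
  set a' := (s : Matrix (Fin 3) (Fin 3) F) *ᵥ a with ha'
  have h' := (T3_mem_iff _ _ _ _).mp (T3_mem r1 h)
  obtain ⟨h1, h2⟩ := h'
  have ha0 : a' 0 = 0 := by
    rw [h0] at h2
    simpa using h2.symm
  have hne : α - β ≠ 0 := by
    intro h00
    have : (α - β) ^ 2 = 1 := by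
      have : (α - β) ^ 2 = (α + β) ^ 2 - 4 * (α * β) := by ring
      rw [this, h1, h0]
      ring
    rw [h00] at this
    simp at this
  have r2 := rel_dn (-(α - β)⁻¹) α β a' ![1, 0, 0]
  have e : zv (α - -(α - β)⁻¹ * a' 0)
      ![a' 0, a' 1 - -(α - β)⁻¹ * (![1, 0, 0] : Fin 3 → F) 2,
        a' 2 + -(α - β)⁻¹ * (![1, 0, 0] : Fin 3 → F) 1]
      ![(![1, 0, 0] : Fin 3 → F) 0 + -(α - β)⁻¹ * (α - β) - (-(α - β)⁻¹) ^ 2 * a' 0,
        (![1, 0, 0] : Fin 3 → F) 1, (![1, 0, 0] : Fin 3 → F) 2]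
      (β + -(α - β)⁻¹ * a' 0) = zv α a' 0 β := by
    ext i
    fin_cases i <;> simp [zv, hne, ha0]
  rw [e] at r2
  have r3 := rel_trans r1 r2
  exact rel_trans r3 (T3_L1 α β a' (T3_mem r3 h))

theorem T3_L3 (α β : F) (a b : Fin 3 → F) (h : zv α a b β ∈ Idem F) :
    Rel (zv α a b β) e1 := by
  by_cases hb : b = 0
  · subst hb
    exact T3_L1 α β a h
  obtain ⟨s, hs⟩ := exists_sl_b b hb
  have r1 := rel_sl s α β a b
  rw [hs] at r1
  have r2 := rel_up (-α) α β ((s : Matrix (Fin 3) (Fin 3) F) *ᵥ a) ![1, 0, 0]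
  have r3 := rel_trans r1 r2
  refine rel_trans r3 (T3_L2 _ _ _ _ (T3_mem r3 h) ?_)
  simp

theorem trans_Idem (f : Fin 8 → F) (hf : f ∈ Idem F) : Rel f e1 := by
  rw [← O4_zv_self f] at hf ⊢
  exact T3_L3 _ _ _ _ hf

end Cfsg.Agent.Lib.Helper90.G2S
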