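import Cfsg.Agent.Lib.Helper90.G2S.O1
import Cfsg.Agent.Lib.Helper90.G2S.O4
import Cfsg.Agent.Lib.Helper90.G2S.O5
import Cfsg.Agent.Lib.Helper90.G2S.O6
import Cfsg.Agent.Lib.Helper90.G2S.T3

set_option autoImplicit false

namespace Cfsg.Agent.Lib.Helper90.G2S

open Cfsg.Lie Matrix Cfsg.Agent.Lib.Helper90.Syl2
open scoped MatrixGroups

variable {F : Type*} [Field F]

omit [Field F] in
theorem o8_eq_zv (w : Fin 8 → F) : w = zv (w 0) ![w 1, w 2, w 3] ![w 4, w 5, w 6] (w 7) := by
  ext i
  fin_cases i <;> simp [zv]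

omit [Field F] in
theorem o8_zv_inj {α β α' β' : F} {a b a' b' : Fin 3 → F} (h : zv α a b β = zv α' a' b' β') :
    a = a' := by
  have h1 := congrFun h 1
  have h2 := congrFun h 2
  have h3 := congrFun h 3
  simp [zv] at h1 h2 h3
  ext i
  fin_cases i <;> simp [*]

theorem o8_e1 : (e1 : Fin 8 → F) = zv 1 0 0 0 := by
  ext i
  fin_cases i <;> simp [zv, e1]

theorem o8_e1_mem : (e1 : Fin 8 → F) ∈ Idem F := by
  constructor <;> simp [e1]

theorem o8_actsAs_e1 {g : G2 F} {s : SpecialLinearGroup (Fin 3) F} (h : ActsAs g s) :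
    act g e1 = e1 := by
  rw [o8_e1, h, Matrix.mulVec_zero, Matrix.mulVec_zero]

theorem o8_actsAs_unique {g g' : G2 F} {s : SpecialLinearGroup (Fin 3) F} (h : ActsAs g s)
    (h' : ActsAs g' s) : g = g' := by
  apply act_ext
  intro w
  rw [o8_eq_zv w, h, h']

theorem o8_actsAs_inj {g : G2 F} {s s' : SpecialLinearGroup (Fin 3) F} (h : ActsAs g s)
    (h' : ActsAs g s') : s = s' := by
  apply Subtype.ext
  apply Matrix.ext_iff_mulVec.2
  intro a
  have h1 := h 0 0 a 0
  rw [h' 0 0 a 0] at h1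
  exact (o8_zv_inj h1).symm

/-- a copy of `F⁸` carrying the action of `G₂(F)` -/
def O8V (F : Type*) : Type _ := Fin 8 → F

instance o8Act : MulAction (G2 F) (O8V F) where
  smul := fun g x => act g x
  one_smul := act_one
  mul_smul := act_mul

/-- O8. -/
theorem card_G2 [Fintype F] :
    Nat.card (G2 F) = Nat.card (Idem F) * Nat.card (SpecialLinearGroup (Fin 3) F) := by
  let e : O8V F := (e1 : Fin 8 → F)
  have hsm : ∀ (g : G2 F) (x : O8V F), g • x = act g x := fun _ _ => rfl
  obtain ⟨ι, hι⟩ := exists_iota (F := F)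
  have horb : MulAction.orbit (G2 F) e = (Idem F : Set (Fin 8 → F)) := by
    ext f
    constructor
    · rintro ⟨g, rfl⟩
      exact act_mem_Idem g o8_e1_mem
    · intro hf
      obtain ⟨g, hg⟩ := trans_Idem f hf
      refine ⟨g⁻¹, ?_⟩
      have h2 : act g⁻¹ e1 = f := by
        rw [← hg]
        exact o6_inv_act g f
      exact h2
  have hinj : Function.Injective ι := by
    intro s s' hss
    have h1 := hι s
    rw [hss] at h1
    exact o8_actsAs_inj h1 (hι s')
  have hrange : ι.range = MulAction.stabilizer (G2 F) e := by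
    ext g
    rw [MulAction.mem_stabilizer_iff, hsm]
    constructor
    · rintro ⟨s, rfl⟩
      exact o8_actsAs_e1 (hι s)
    · intro hg
      obtain ⟨s, hs⟩ := stab_e1 g hg
      exact ⟨s, o8_actsAs_unique (hι s) hs⟩
  have h1 : Nat.card (MulAction.orbit (G2 F) e) = Nat.card (Idem F) := by
    rw [horb]
    rfl
  rw [Subgroup.card_eq_card_quotient_mul_card_subgroup (MulAction.stabilizer (G2 F) e),
    ← Nat.card_congr (MulAction.orbitEquivQuotientStabilizer (G2 F) e), h1,
    ← hrange, ← Nat.card_congr (MonoidHom.ofInjective hinj).toEquiv]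

end Cfsg.Agent.Lib.Helper90.G2S
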