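import Cfsg.Agent.Lib.Helper90.G2S.O1
import Cfsg.Agent.Lib.Helper90.G2S.O2
import Cfsg.Agent.Lib.Helper90.G2S.O3
import Cfsg.Agent.Lib.Helper90.G2S.O4

/-!
Ladder G2SYL (helper90), rung T1 (helper86): explicit moves in `G₂(F)`.
-/

set_option autoImplicit false

namespace Cfsg.Agent.Lib.Helper90.G2S

open Cfsg.Lie Matrix Cfsg.Agent.Lib.Helper90.Syl2
open scoped MatrixGroups

variable {F : Type*} [Field F]

theorem rel_refl (f : Fin 8 → F) : Rel f f := ⟨1, act_one f⟩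

theorem rel_symm {f f' : Fin 8 → F} (h : Rel f f') : Rel f' f := by
  obtain ⟨g, rfl⟩ := h
  exact ⟨g⁻¹, by rw [← act_mul, inv_mul_cancel, act_one]⟩

theorem rel_trans {f f' f'' : Fin 8 → F} (h : Rel f f') (h' : Rel f' f'') : Rel f f'' := by
  obtain ⟨g, rfl⟩ := h
  obtain ⟨g', rfl⟩ := h'
  exact ⟨g' * g, act_mul g' g f⟩

/-- the upper unitriangular matrix. -/
def T1_up (t : F) : GL (Fin 2) F :=
  ⟨!![1, t; 0, 1], !![1, -t; 0, 1],
    by ext i j; fin_cases i <;> fin_cases j <;> simp [Matrix.mul_apply, Fin.sum_univ_two],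
    by ext i j; fin_cases i <;> fin_cases j <;> simp [Matrix.mul_apply, Fin.sum_univ_two]⟩

/-- the lower unitriangular matrix. -/
def T1_dn (t : F) : GL (Fin 2) F :=
  ⟨!![1, 0; t, 1], !![1, 0; -t, 1],
    by ext i j; fin_cases i <;> fin_cases j <;> simp [Matrix.mul_apply, Fin.sum_univ_two],
    by ext i j; fin_cases i <;> fin_cases j <;> simp [Matrix.mul_apply, Fin.sum_univ_two]⟩

/-- the swap matrix. -/
def T1_sw : GL (Fin 2) F :=
  ⟨!![0, 1; 1, 0], !![0, 1; 1, 0],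
    by ext i j; fin_cases i <;> fin_cases j <;> simp [Matrix.mul_apply, Fin.sum_univ_two],
    by ext i j; fin_cases i <;> fin_cases j <;> simp [Matrix.mul_apply, Fin.sum_univ_two]⟩

theorem T1_mem_MM (p r : GL (Fin 2) F)
    (h : (p : Matrix (Fin 2) (Fin 2) F).det = (r : Matrix (Fin 2) (Fin 2) F).det) :
    (p, r) ∈ MM F := by
  change GeneralLinearGroup.det p = GeneralLinearGroup.det r
  apply Units.ext
  simpa using h

theorem rel_up (t α β : F) (a b : Fin 3 → F) :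
    Rel (zv α a b β) (zv (α + t * b 0) ![a 0 + t * (β - α) - t ^ 2 * b 0, a 1, a 2]
      ![b 0, b 1 + t * a 2, b 2 - t * a 1] (β - t * b 0)) := by
  obtain ⟨Φ, hΦ⟩ := exists_Phi (F := F)
  refine ⟨Φ ⟨(T1_up t, 1), T1_mem_MM _ _ (by simp [T1_up, Matrix.det_fin_two])⟩, ?_⟩
  rw [zv_eq_psi, hΦ, zv_eq_psi]
  congr 1
  · change !![1, t; 0, 1] * _ * !![1, -t; 0, 1] = _
    ext i j
    fin_cases i <;> fin_cases j <;> simp [Matrix.mul_apply, Fin.sum_univ_two] <;> ring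
  · change (1 : Matrix (Fin 2) (Fin 2) F) * _ * !![1, -t; 0, 1] = _
    ext i j
    fin_cases i <;> fin_cases j <;> simp [Matrix.mul_apply, Fin.sum_univ_two] <;> ring

theorem rel_dn (t α β : F) (a b : Fin 3 → F) :
    Rel (zv α a b β) (zv (α - t * a 0) ![a 0, a 1 - t * b 2, a 2 + t * b 1]
      ![b 0 + t * (α - β) - t ^ 2 * a 0, b 1, b 2] (β + t * a 0)) := by
  obtain ⟨Φ, hΦ⟩ := exists_Phi (F := F)
  refine ⟨Φ ⟨(T1_dn t, 1), T1_mem_MM _ _ (by simp [T1_dn, Matrix.det_fin_two])⟩, ?_⟩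
  rw [zv_eq_psi, hΦ, zv_eq_psi]
  congr 1
  · change !![1, 0; t, 1] * _ * !![1, 0; -t, 1] = _
    ext i j
    fin_cases i <;> fin_cases j <;> simp [Matrix.mul_apply, Fin.sum_univ_two] <;> ring
  · change (1 : Matrix (Fin 2) (Fin 2) F) * _ * !![1, 0; -t, 1] = _
    ext i j
    fin_cases i <;> fin_cases j <;> simp [Matrix.mul_apply, Fin.sum_univ_two] <;> ring

theorem rel_swap : Rel (zv (0 : F) 0 0 1) e1 := by
  obtain ⟨Φ, hΦ⟩ := exists_Phi (F := F)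
  refine ⟨Φ ⟨(T1_sw, T1_sw), T1_mem_MM _ _ rfl⟩, ?_⟩
  have he : (e1 : Fin 8 → F) = zv 1 0 0 0 := by
    ext i
    fin_cases i <;> simp [e1, zv]
  rw [he, zv_eq_psi, hΦ, zv_eq_psi]
  congr 1
  · change !![0, 1; 1, 0] * _ * !![0, 1; 1, 0] = _
    ext i j
    fin_cases i <;> fin_cases j <;> simp [Matrix.mul_apply, Fin.sum_univ_two]
  · change !![0, 1; 1, 0] * _ * !![0, 1; 1, 0] = _
    ext i j
    fin_cases i <;> fin_cases j <;> simp [Matrix.mul_apply, Fin.sum_univ_two]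

theorem rel_sl (s : SpecialLinearGroup (Fin 3) F) (α β : F) (a b : Fin 3 → F) :
    Rel (zv α a b β) (zv α ((s : Matrix (Fin 3) (Fin 3) F) *ᵥ a)
      (((s⁻¹ : SpecialLinearGroup (Fin 3) F) : Matrix (Fin 3) (Fin 3) F)ᵀ *ᵥ b) β) := by
  obtain ⟨ι, hι⟩ := exists_iota (F := F)
  exact ⟨ι s, hι s α β a b⟩

end Cfsg.Agent.Lib.Helper90.G2S
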